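import Groth.Agent.S7890
import Groth.Agent.Hens.FinitePart
import Groth.Agent.ProjProper.Basic
import Groth.Prelude.Def_BlowUp2
import Groth.Prelude.Def_ModelsG

/-!
# Horizontal effective Cartier divisors on fibred surfaces over a henselian DVR
-/

set_option autoImplicit false
universe u

open AlgebraicGeometry CategoryTheory CategoryTheory.Limits IsLocalRing TopologicalSpace

namespace Groth.Agent.HorizCartier96

/-- No chain of four points in a sober space of dimension at most two. -/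
theorem false_of_chain {X : Type*} [TopologicalSpace X] [T0Space X]
    (hdim : topologicalKrullDim X ≤ 2) {a b c d : X} (hab : a ⤳ b) (hbc : b ⤳ c) (hcd : c ⤳ d)
    (h1 : a ≠ b) (h2 : b ≠ c) (h3 : c ≠ d) : False := by
  let s : X → IrreducibleCloseds X := fun x => ⟨closure {x}, isIrreducible_singleton.closure, isClosed_closure⟩
  have hlt : ∀ {p q : X}, p ⤳ q → p ≠ q → s q < s p := by
    intro p q h hne
    refine lt_of_le_of_ne (specializes_iff_closure_subset.1 h) fun e => hne ?_
    have e' : closure ({q} : Set X) = closure {p} := congrArg (fun t : IrreducibleCloseds X => (t : Set X)) e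
    exact (inseparable_iff_closure_eq.2 e'.symm).eq
  let l : LTSeries (IrreducibleCloseds X) :=
    (((RelSeries.singleton _ (s d)).snoc (s c) (by simpa using hlt hcd h3)).snoc (s b)
      (by simpa using hlt hbc h2)).snoc (s a) (by simpa using hlt hab h1)
  have h4 := (Order.LTSeries.length_le_krullDim l).trans hdim
  simp [l] at h4
  norm_cast at h4

/-- A two-dimensional sober space contains a chain of three points. -/
theorem exists_chain {X : Type*} [TopologicalSpace X] [QuasiSober X]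
    (hdim : 2 ≤ topologicalKrullDim X) : ∃ a b c : X, a ⤳ b ∧ b ⤳ c ∧ a ≠ b ∧ b ≠ c := by
  obtain ⟨l, hl⟩ := Order.le_krullDim_iff.1 (by exact_mod_cast hdim : ((2 : ℕ) : WithBot ℕ∞) ≤ _)
  let S : ℕ → IrreducibleCloseds X := fun i => l ⟨min i l.length, by omega⟩
  have hS : ∀ {i j}, i < j → j ≤ 2 → S i < S j := fun {i j} h h' =>
    l.strictMono (by simp only [Fin.mk_lt_mk]; omega)
  let g : ℕ → X := fun i => (S i).isIrreducible.genericPoint
  have hg : ∀ i, closure ({g i} : Set X) = (S i : Set X) := fun i => by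
    rw [(S i).isIrreducible.genericPoint_closure_eq, (S i).isClosed.closure_eq]
  have hsp : ∀ {i j}, i < j → j ≤ 2 → g j ⤳ g i ∧ g j ≠ g i := fun {i j} h h' => by
    refine ⟨specializes_iff_closure_subset.2 (by rw [hg, hg]; exact (hS h h').le), fun e => ?_⟩
    exact (hS h h').ne (IrreducibleCloseds.ext (by rw [← hg, ← hg, e]))
  exact ⟨g 2, g 1, g 0, (hsp (by omega) le_rfl).1, (hsp (by omega) (by omega)).1,
    (hsp (by omega) le_rfl).2, (hsp (by omega) (by omega)).2⟩

variable {R : Type u} [CommRing R] [IsDomain R] [IsDiscreteValuationRing R]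

theorem closedPoint_or_eq_bot (z : PrimeSpectrum R) : z = closedPoint R ∨ z.asIdeal = ⊥ := by
  by_cases h : z.asIdeal = ⊥
  · exact Or.inr h
  · exact Or.inl (PrimeSpectrum.ext (eq_maximalIdeal (z.isPrime.isMaximal h)))

theorem closedPoint_ne_bot : (closedPoint R).asIdeal ≠ ⊥ := IsDiscreteValuationRing.not_a_field R

section

variable {X : Scheme.{u}} [IsIntegral X] (f : X ⟶ Spec (CommRingCat.of R)) [IsProper f] [Flat f]

theorem genericPoint_over_bot : (f.base (genericPoint X)).asIdeal = ⊥ := by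
  have hb : (⟨⊥, Ideal.isPrime_bot⟩ : PrimeSpectrum R) ⤳ f.base (genericPoint X) :=
    (PrimeSpectrum.le_iff_specializes _ _).1 bot_le
  obtain ⟨z, hz, hzb⟩ := Flat.generalizingMap f (a := genericPoint X) hb
  have : z = genericPoint X := (hz.antisymm (genericPoint_specializes z)).eq
  subst this
  exact congrArg PrimeSpectrum.asIdeal hzb

theorem isClosed_over_closedPoint {p : X} (hp : IsClosed ({p} : Set X)) : f.base p = closedPoint R := by
  have := f.isClosedMap _ hp
  rw [Set.image_singleton] at this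
  exact PrimeSpectrum.ext (eq_maximalIdeal
    ((PrimeSpectrum.isClosed_singleton_iff_isMaximal _).1 this))

theorem exists_spec_closedPoint (p : X) : ∃ y : X, p ⤳ y ∧ f.base y = closedPoint R := by
  obtain ⟨y, hy, hyc⟩ : closedPoint R ∈ f '' closure {p} :=
    (IsLocalRing.specializes_closedPoint (f p)).mem_closed (f.isClosedMap _ isClosed_closure)
      ⟨p, subset_closure rfl, rfl⟩
  exact ⟨y, specializes_iff_mem_closure.2 hy, hyc⟩

/-- Non-generic points of the generic fibre are closed in it. -/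
theorem eq_of_specializes (hdim : topologicalKrullDim X ≤ 2) {p q : X} (hp : p ≠ genericPoint X)
    (hq : (f.base q).asIdeal = ⊥) (hpq : p ⤳ q) : p = q := by
  by_contra hne
  obtain ⟨y, hy, hyc⟩ := exists_spec_closedPoint f q
  refine false_of_chain hdim (genericPoint_specializes p) hpq hy (Ne.symm hp) hne fun e => ?_
  subst e
  rw [hyc] at hq
  exact closedPoint_ne_bot hq

/-- Algebra data of a chart. -/
theorem chart_hom (U : X.Opens) (hU : IsAffineOpen U) :
    ∃ φ : R →+* Γ(X, U), φ.FiniteType ∧ Spec.map (CommRingCat.ofHom φ) = hU.fromSpec ≫ f := by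
  refine ⟨(Spec.preimage (hU.fromSpec ≫ f)).hom, ?_, ?_⟩
  · have : LocallyOfFiniteType (Spec.map (Spec.preimage (hU.fromSpec ≫ f))) := by
      rw [Spec.map_preimage]; infer_instance
    exact (HasRingHomProperty.Spec_iff (P := @LocallyOfFiniteType)).1 this
  · rw [CommRingCat.ofHom_hom, Spec.map_preimage]

/-- The generic fibre of a two-dimensional proper flat integral scheme over a DVR is not a point. -/
theorem exists_generic_ne (hdim : topologicalKrullDim X = 2) :
    ∃ b : X, (f.base b).asIdeal = ⊥ ∧ b ≠ genericPoint X := by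
  by_contra H
  simp only [not_exists, not_and, not_not] at H
  obtain ⟨a, b, c, hab, hbc, h1, h2⟩ := exists_chain hdim.ge
  have hb : b ≠ genericPoint X := fun e => h1 (e ▸ (hab.antisymm (e ▸ genericPoint_specializes a)).eq)
  obtain ⟨_, ⟨U, hU, rfl⟩, hcU, -⟩ :=
    X.isBasis_affineOpens.exists_subset_of_mem_open (Set.mem_univ c) isOpen_univ
  have hcU : c ∈ U := hcU
  have hU : IsAffineOpen U := hU
  obtain ⟨φ, hft, hφ⟩ := chart_hom f U hU
  letI := φ.toAlgebra
  haveI : Algebra.FiniteType R Γ(X, U) := hft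
  haveI : IsNoetherianRing Γ(X, U) := Algebra.FiniteType.isNoetherianRing R _
  haveI : Nonempty U := ⟨⟨c, hcU⟩⟩
  obtain ⟨π, hπ⟩ := IsDiscreteValuationRing.exists_irreducible R
  have hfz : ∀ z : PrimeSpectrum Γ(X, U),
      f.base (hU.fromSpec z) = PrimeSpectrum.comap φ z := fun z => by
    show (hU.fromSpec ≫ f) z = _
    rw [← hφ]; rfl
  set Pc := hU.primeIdealOf ⟨c, hcU⟩ with hPc
  set Pb := hU.primeIdealOf ⟨b, hbc.mem_open U.2 hcU⟩ with hPb
  have h2b : hU.fromSpec Pb = b := hU.fromSpec_primeIdealOf _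
  have h2c : hU.fromSpec Pc = c := hU.fromSpec_primeIdealOf _
  have hle : Pb.asIdeal ≤ Pc.asIdeal := (PrimeSpectrum.le_iff_specializes _ _).2
    (hU.fromSpec.isOpenEmbedding.isInducing.specializes_iff.1 (by rw [h2b, h2c]; exact hbc))
  have hgen : ∀ z : PrimeSpectrum Γ(X, U), hU.fromSpec z = genericPoint X → z.asIdeal = ⊥ := by
    intro z hz
    have : hU.fromSpec z ⤳ hU.fromSpec (⟨⊥, Ideal.isPrime_bot⟩ : PrimeSpectrum Γ(X, U)) := by
      rw [hz]; exact genericPoint_specializes _
    exact le_bot_iff.1 ((PrimeSpectrum.le_iff_specializes _ _).2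
      (hU.fromSpec.isOpenEmbedding.isInducing.specializes_iff.1 this))
  have hπmem : ∀ z : PrimeSpectrum Γ(X, U), z.asIdeal ≠ ⊥ → φ π ∈ z.asIdeal := by
    intro z hz
    rcases closedPoint_or_eq_bot (f.base (hU.fromSpec z)) with h | h
    · show π ∈ (PrimeSpectrum.comap φ z).asIdeal
      rw [← hfz, h]
      show π ∈ maximalIdeal R
      rw [hπ.maximalIdeal_eq]
      exact Ideal.mem_span_singleton_self π
    · exact absurd (hgen z (H _ h)) hz
  let D := Localization.AtPrime Pc.asIdeal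
  haveI : IsDomain D := IsLocalization.isDomain_localization Pc.asIdeal.primeCompl_le_nonZeroDivisors
  haveI hP' : (Pb.asIdeal.map (algebraMap Γ(X, U) D)).IsPrime :=
    Pc.asIdeal.isPrime_map_of_isLocalizationAtPrime (S := D) hle
  have hPb0 : Pb.asIdeal ≠ ⊥ := fun e => hb (by
    rw [← h2b]
    have : Pb = hU.primeIdealOf ⟨genericPoint X,
        ((genericPoint_spec X).mem_open_set_iff U.2).2 (by simpa using ⟨c, hcU⟩)⟩ :=
      PrimeSpectrum.ext (e.trans (hgen _ (hU.fromSpec_primeIdealOf _)).symm)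
    rw [this, hU.fromSpec_primeIdealOf])
  have hπ0 : φ π ≠ 0 := fun e => hπ.ne_zero (by
    have h0 := genericPoint_over_bot f
    have hη : genericPoint X ∈ U := ((genericPoint_spec X).mem_open_set_iff U.2).2 (by simpa using ⟨c, hcU⟩)
    have h1 := hfz (hU.primeIdealOf ⟨genericPoint X, hη⟩)
    rw [hU.fromSpec_primeIdealOf] at h1
    replace h1 := (congrArg PrimeSpectrum.asIdeal h1).symm.trans h0
    have : π ∈ (PrimeSpectrum.comap φ (hU.primeIdealOf ⟨genericPoint X, hη⟩)).asIdeal := by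
      show φ π ∈ (hU.primeIdealOf ⟨genericPoint X, hη⟩).asIdeal
      rw [e]; exact zero_mem _
    rwa [h1, Ideal.mem_bot] at this)
  have hinj : Function.Injective (algebraMap Γ(X, U) D) :=
    IsLocalization.injective D Pc.asIdeal.primeCompl_le_nonZeroDivisors
  rcases S7890.eq_bot_or_eq_maximalIdeal (D := D) (algebraMap Γ(X, U) D (φ π)) (fun J hJ hJ0 => by
      haveI := hJ
      refine hπmem ⟨J.comap (algebraMap Γ(X, U) D), inferInstance⟩ fun e => hJ0 ?_
      rw [← IsLocalization.map_comap Pc.asIdeal.primeCompl D J]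
      exact (congrArg (Ideal.map (algebraMap Γ(X, U) D)) e).trans Ideal.map_bot)
    (fun h => hπ0 (hinj (by rw [h, map_zero]))) (Pb.asIdeal.map (algebraMap Γ(X, U) D)) with h | h
  · exact hPb0 ((Ideal.map_eq_bot_iff_of_injective hinj).1 h)
  · refine h2 ?_
    rw [← h2b, ← h2c]
    refine congrArg hU.fromSpec (PrimeSpectrum.ext ?_)
    rw [← Pc.asIdeal.under_map_of_isLocalizationAtPrime (S := D) hle, h,
      Localization.AtPrime.under_maximalIdeal]

theorem exists_spec_generic_ne (hdim : topologicalKrullDim X = 2) {x : X}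
    (hx : IsClosed ({x} : Set X)) :
    ∃ x0 : X, (f.base x0).asIdeal = ⊥ ∧ x0 ≠ genericPoint X ∧ x0 ⤳ x := by
  have hdom : DenseRange f.base := fun z => by
    let pη : PrimeSpectrum R := f.base (genericPoint X)
    have hpη : pη.asIdeal = ⊥ := genericPoint_over_bot f
    have hle : pη.asIdeal ≤ (show PrimeSpectrum R from z).asIdeal := hpη ▸ bot_le
    exact closure_mono (Set.singleton_subset_iff.2 (Set.mem_range_self (genericPoint X)))
      (specializes_iff_mem_closure.1 ((PrimeSpectrum.le_iff_specializes pη z).1 hle))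
  obtain ⟨x0, h0, hcl, hsp⟩ := S7890.result f hdom x hx
    (by rw [isClosed_over_closedPoint f hx]; exact maximalIdeal.isMaximal R)
  refine ⟨x0, h0, fun e => ?_, hsp⟩
  obtain ⟨b, hb, hbne⟩ := exists_generic_ne f hdim
  exact hbne ((hcl b hb (e ▸ genericPoint_specializes b)).trans e)

end

/-- Restriction of a morphism along an open immersion into the source does not change the kernel
ideal over opens whose preimage lies inside. -/
theorem ker_ideal_comp_openImmersion {D Z X : Scheme.{u}} (j : D ⟶ Z) [IsOpenImmersion j] (e : Z ⟶ X)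
    [QuasiCompact e] [QuasiCompact (j ≫ e)] (V : X.affineOpens) (h : e ⁻¹ᵁ V.1 ≤ j.opensRange) :
    (j ≫ e).ker.ideal V = e.ker.ideal V := by
  haveI := Scheme.Hom.isIso_app j (e ⁻¹ᵁ V.1) h
  rw [Scheme.Hom.ker_apply, Scheme.Hom.ker_apply, Scheme.Hom.comp_app]
  ext a
  simp only [RingHom.mem_ker, CommRingCat.hom_comp, RingHom.comp_apply]
  exact map_eq_zero_iff _ (ConcreteCategory.bijective_of_isIso (j.app (e ⁻¹ᵁ V.1))).1

set_option backward.isDefEq.respectTransparency false in
/-- Kernel ideal of a closed subscheme of an affine open over that open. -/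
theorem ker_ideal_fromSpec {X : Scheme.{u}} (U : X.Opens) (hU : IsAffineOpen U)
    {B : CommRingCat.{u}} (q : Γ(X, U) ⟶ B) [QuasiCompact (Spec.map q ≫ hU.fromSpec)] :
    (Spec.map q ≫ hU.fromSpec).ker.ideal ⟨U, hU⟩ = RingHom.ker q.hom := by
  have hpre : (Spec.map q ≫ hU.fromSpec) ⁻¹ᵁ U = ⊤ := by
    rw [Scheme.Hom.comp_preimage, hU.fromSpec_preimage_self]; rfl
  have h1 : hU.fromSpec.appLE U ⊤ hU.fromSpec_preimage_self.ge = (Scheme.ΓSpecIso Γ(X, U)).inv := by
    rw [Scheme.Hom.appLE, hU.fromSpec_app_self, Category.assoc, ← Functor.map_comp,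
      Subsingleton.elim (_ ≫ _) (𝟙 _), CategoryTheory.Functor.map_id, Category.comp_id]
  have h2 : (Spec.map q).appLE ⊤ ⊤ le_top = (Spec.map q).appTop := Scheme.Hom.appLE_eq_app (Spec.map q)
  have key : (Spec.map q ≫ hU.fromSpec).app U ≫ (Spec B).presheaf.map (eqToHom hpre.symm).op ≫
      (Scheme.ΓSpecIso B).hom = q := by
    rw [← Category.assoc]
    have h3 : (Spec.map q ≫ hU.fromSpec).app U ≫ (Spec B).presheaf.map (eqToHom hpre.symm).op =
        (Spec.map q ≫ hU.fromSpec).appLE U ⊤ hpre.ge := rfl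
    have h4 := Scheme.Hom.appLE_comp_appLE (Spec.map q) hU.fromSpec U ⊤ ⊤
      hU.fromSpec_preimage_self.ge le_top
    rw [h3, ← h4, h1, h2, Category.assoc, Scheme.ΓSpecIso_naturality, Iso.inv_hom_id_assoc]
  rw [Scheme.Hom.ker_apply]
  ext a
  simp only [RingHom.mem_ker]
  conv_rhs => rw [← key]
  simp only [CommRingCat.hom_comp, RingHom.comp_apply]
  exact (map_eq_zero_iff ((Spec B).presheaf.map (eqToHom hpre.symm).op ≫
    (Scheme.ΓSpecIso B).hom).hom (ConcreteCategory.bijective_of_isIso _).1).symm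

/-- **Horizontal Cartier divisors through a closed point.** -/
theorem exists_horizontal [HenselianLocalRing R] {X : Scheme.{u}} [IsIntegral X]
    (f : X ⟶ Spec (CommRingCat.of R)) [IsProper f] [Flat f] (hdim : topologicalKrullDim X = 2)
    (x : X) (hx : IsClosed ({x} : Set X)) :
    ∃ (D : Scheme.{u}) (d : D ⟶ X), IsClosedImmersion d ∧ BlowUp.IsEffCartierIdeal d.ker ∧
      (∀ p : D, ∃ q : D, q ⤳ p ∧ ((d ≫ f).base q).asIdeal = ⊥) ∧
      Set.range d.base ∩ f.base ⁻¹' {closedPoint R} = {x} := by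
  classical
  have hxs := isClosed_over_closedPoint f hx
  obtain ⟨x0, hx00, hx0ne, hx0x⟩ := exists_spec_generic_ne f hdim hx
  obtain ⟨_, ⟨U, hU, rfl⟩, hxU, -⟩ :=
    X.isBasis_affineOpens.exists_subset_of_mem_open (Set.mem_univ x) isOpen_univ
  have hxU : x ∈ U := hxU
  have hU : IsAffineOpen U := hU
  obtain ⟨φ, hft, hφ⟩ := chart_hom f U hU
  letI := φ.toAlgebra
  haveI : Algebra.FiniteType R Γ(X, U) := hft
  haveI : IsNoetherianRing Γ(X, U) := Algebra.FiniteType.isNoetherianRing R _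
  haveI : Nonempty U := ⟨⟨x, hxU⟩⟩
  obtain ⟨π, hπ⟩ := IsDiscreteValuationRing.exists_irreducible R
  have hfz : ∀ z : PrimeSpectrum Γ(X, U),
      f.base (hU.fromSpec z) = PrimeSpectrum.comap φ z := fun z => by
    show (hU.fromSpec ≫ f) z = _
    rw [← hφ]; rfl
  have hπiff : ∀ z : PrimeSpectrum Γ(X, U),
      f.base (hU.fromSpec z) = closedPoint R ↔ φ π ∈ z.asIdeal := by
    intro z
    constructor
    · intro h
      show π ∈ (PrimeSpectrum.comap φ z).asIdeal
      rw [← hfz, h]
      show π ∈ maximalIdeal R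
      rw [hπ.maximalIdeal_eq]
      exact Ideal.mem_span_singleton_self π
    · intro h
      refine (closedPoint_or_eq_bot _).resolve_right fun e => hπ.ne_zero ?_
      have h' : π ∈ (PrimeSpectrum.comap φ z).asIdeal := h
      rwa [← hfz, e, Ideal.mem_bot] at h'
  have hbotiff : ∀ z : PrimeSpectrum Γ(X, U),
      φ π ∉ z.asIdeal → (f.base (hU.fromSpec z)).asIdeal = ⊥ := fun z hz =>
    (closedPoint_or_eq_bot _).resolve_left fun e => hz ((hπiff z).1 e)
  have hspec : ∀ {z w : PrimeSpectrum Γ(X, U)}, z.asIdeal ≤ w.asIdeal → hU.fromSpec z ⤳ hU.fromSpec w :=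
    fun h => ((PrimeSpectrum.le_iff_specializes _ _).1 h).map hU.fromSpec.continuous
  have hinjpt := hU.fromSpec.isOpenEmbedding.injective
  have hηU : genericPoint X ∈ U := ((genericPoint_spec X).mem_open_set_iff U.2).2 (by simpa using ⟨x, hxU⟩)
  set N := hU.primeIdealOf ⟨genericPoint X, hηU⟩ with hN
  have hN' : hU.fromSpec N = genericPoint X := hU.fromSpec_primeIdealOf _
  have hN0 : N.asIdeal = ⊥ := le_bot_iff.1 ((PrimeSpectrum.le_iff_specializes N ⟨⊥, Ideal.isPrime_bot⟩).2
    (hU.fromSpec.isOpenEmbedding.isInducing.specializes_iff.1 (by rw [hN']; exact genericPoint_specializes _)))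
  have hne : ∀ z : PrimeSpectrum Γ(X, U), z.asIdeal ≠ ⊥ → hU.fromSpec z ≠ genericPoint X :=
    fun z hz e => hz (by rw [hinjpt (e.trans hN'.symm), hN0])
  have hπN : φ π ∉ N.asIdeal := fun h => hπ.ne_zero (by
    have h' : π ∈ (PrimeSpectrum.comap φ N).asIdeal := h
    rwa [← hfz, hN', genericPoint_over_bot f, Ideal.mem_bot] at h')
  have hπ0 : φ π ≠ 0 := fun e => hπN (by rw [e]; exact zero_mem _)
  set q := hU.primeIdealOf ⟨x, hxU⟩ with hq
  have hq' : hU.fromSpec q = x := hU.fromSpec_primeIdealOf _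
  have hπq : φ π ∈ q.asIdeal := (hπiff q).1 (by rw [hq']; exact hxs)
  set P0 := hU.primeIdealOf ⟨x0, hx0x.mem_open U.2 hxU⟩ with hP0
  have hP0' : hU.fromSpec P0 = x0 := hU.fromSpec_primeIdealOf _
  have hP0q : P0.asIdeal < q.asIdeal := by
    refine lt_of_le_of_ne ((PrimeSpectrum.le_iff_specializes _ _).2
      (hU.fromSpec.isOpenEmbedding.isInducing.specializes_iff.1 (by rw [hP0', hq']; exact hx0x))) fun e => ?_
    have : x0 = x := by rw [← hP0', ← hq', PrimeSpectrum.ext e]
    rw [this, hxs] at hx00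
    exact closedPoint_ne_bot hx00
  have hP00 : (⊥ : Ideal Γ(X, U)) < P0.asIdeal := bot_lt_iff_ne_bot.2 fun e => hx0ne (by
    rw [← hP0', ← hN']; exact congrArg hU.fromSpec (PrimeSpectrum.ext (e.trans hN0.symm)))
  haveI : q.asIdeal.IsPrime := q.isPrime
  haveI : P0.asIdeal.IsPrime := P0.isPrime
  have hq2 : ¬ q.asIdeal.height ≤ 1 := by
    intro h
    have h2 := Ideal.height_strict_mono_of_isPrime (I := (⊥ : Ideal Γ(X, U))) hP00
    have h3 := Ideal.height_strict_mono_of_isPrime hP0q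
    have h4 : (1 : ℕ∞) ≤ P0.asIdeal.height := ENat.one_le_iff_ne_zero.mpr (ne_bot_of_gt h2)
    exact absurd (((add_le_add_left h4 1).trans (Order.add_one_le_of_lt h3)).trans h) (by norm_num)
  have hqnot : ∀ {a : Γ(X, U)}, q.asIdeal ∉ (Ideal.span {a}).minimalPrimes := fun {a} ha =>
    hq2 (Ideal.height_le_one_of_isPrincipal_of_mem_minimalPrimes _ _ ha)
  let W := (Ideal.span {φ π}).minimalPrimes
  have hWfin : W.Finite := (Ideal.span {φ π}).finite_minimalPrimes_of_isNoetherianRing
  obtain ⟨a, haq, haW⟩ : ∃ a ∈ q.asIdeal, ∀ M ∈ W, a ∉ M := by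
    by_contra! H
    have : (q.asIdeal : Set Γ(X, U)) ⊆ ⋃ M ∈ W, (M : Set Γ(X, U)) := fun b hb => by
      obtain ⟨M, hM, hbM⟩ := H b hb
      exact Set.mem_biUnion hM hbM
    obtain ⟨M, hM, hMq⟩ := (Ideal.subset_union_prime_finite hWfin ⊥ ⊥ (fun M hM _ _ => hM.1.1)).mp this
    have hI : Ideal.span {φ π} ≤ q.asIdeal := (Ideal.span_singleton_le_iff_mem _).2 hπq
    have : q.asIdeal = M := le_antisymm hMq (hM.2 ⟨inferInstance, hI⟩ hMq)
    exact hqnot (this ▸ hM)
  have ha0 : a ≠ 0 := by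
    rintro rfl
    obtain ⟨M, hM, -⟩ := Ideal.exists_minimalPrimes_le
      ((Ideal.span_singleton_le_iff_mem _).2 hπq)
    exact haW M hM (zero_mem M)
  -- special points of `V(a)` are maximal
  have Hmax : ∀ P P' : PrimeSpectrum Γ(X, U), a ∈ P.asIdeal → φ π ∈ P.asIdeal →
      P.asIdeal ≤ P'.asIdeal → P = P' := by
    intro P P' haP hπP hPP'
    by_contra hne'
    obtain ⟨M, hM, hMP⟩ := Ideal.exists_minimalPrimes_le
      ((Ideal.span_singleton_le_iff_mem _).2 hπP)
    haveI := hM.1.1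
    let m : PrimeSpectrum Γ(X, U) := ⟨M, hM.1.1⟩
    refine false_of_chain hdim.le (genericPoint_specializes (hU.fromSpec m))
      (hspec (z := m) (w := P) hMP) (hspec hPP') (Ne.symm (hne m ?_)) (fun e => ?_) (fun e => hne' (hinjpt e))
    · intro e
      have := hM.1.2 (Ideal.mem_span_singleton_self (φ π))
      rw [show M = ⊥ from e, Ideal.mem_bot] at this
      exact hπ0 this
    · exact haW M hM (by rw [show M = P.asIdeal from congrArg PrimeSpectrum.asIdeal (hinjpt e)]; exact haP)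
  -- points of `V(a)` are minimal over `(a)` or over `(π, a)`
  let S : Set (PrimeSpectrum Γ(X, U)) := {P | a ∈ P.asIdeal}
  have hSfin : S.Finite := by
    refine (((Ideal.span {a}).finite_minimalPrimes_of_isNoetherianRing).union
      ((Ideal.span {φ π, a}).finite_minimalPrimes_of_isNoetherianRing)).preimage
      (f := PrimeSpectrum.asIdeal) (fun _ _ _ _ h => PrimeSpectrum.ext h) |>.subset ?_
    intro P (haP : a ∈ P.asIdeal)
    by_cases hπP : φ π ∈ P.asIdeal
    · right
      refine ⟨⟨P.isPrime, Ideal.span_le.2 (by simp [Set.insert_subset_iff, haP, hπP])⟩, ?_⟩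
      rintro P' ⟨hP', hle'⟩ hP'P
      have h1 : a ∈ P' := hle' (Ideal.subset_span (by simp))
      have h2 : φ π ∈ P' := hle' (Ideal.subset_span (by simp))
      exact (congrArg PrimeSpectrum.asIdeal (Hmax ⟨P', hP'⟩ P h1 h2 hP'P)).ge
    · left
      refine ⟨⟨P.isPrime, (Ideal.span_singleton_le_iff_mem _).2 haP⟩, ?_⟩
      rintro P' ⟨hP', hle'⟩ hP'P
      have h1 : a ∈ P' := hle' (Ideal.mem_span_singleton_self a)
      have h3 : P' ≠ ⊥ := fun e => ha0 (by rwa [e, Ideal.mem_bot] at h1)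
      have h4 := eq_of_specializes f hdim.le (hne ⟨P', hP'⟩ h3) (hbotiff P hπP) (hspec (z := ⟨P', hP'⟩) hP'P)
      exact (congrArg PrimeSpectrum.asIdeal (hinjpt h4)).ge
  -- separate `x` from the other special points of `V(a)`
  obtain ⟨g, hgq, hg⟩ : ∃ g ∉ q.asIdeal,
      ∀ P ∈ S, φ π ∈ P.asIdeal → P ≠ q → g ∈ P.asIdeal := by
    let T := hSfin.toFinset.filter fun P => φ π ∈ P.asIdeal ∧ P ≠ q
    choose! c hc hcq using fun P (hP : P ∈ S ∧ φ π ∈ P.asIdeal ∧ P ≠ q) =>
      SetLike.not_le_iff_exists.mp (fun hle : P.asIdeal ≤ q.asIdeal =>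
        hP.2.2 (Hmax P q hP.1 hP.2.1 hle))
    refine ⟨∏ P ∈ T, c P, fun h => ?_, fun P hP hπP hPq => ?_⟩
    · obtain ⟨P, hP, hm⟩ := (Ideal.IsPrime.prod_mem_iff).mp h
      rw [Finset.mem_filter, Set.Finite.mem_toFinset] at hP
      exact hcq P hP hm
    · exact Ideal.mem_of_dvd _ (Finset.dvd_prod_of_mem c
        (Finset.mem_filter.mpr ⟨hSfin.mem_toFinset.mpr hP, hπP, hPq⟩)) (hc P ⟨hP, hπP, hPq⟩)
  -- the closed subscheme `Z = V(a)` of `U`
  let mk : Γ(X, U) ⟶ CommRingCat.of (Γ(X, U) ⧸ Ideal.span {a}) :=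
    CommRingCat.ofHom (Ideal.Quotient.mk (Ideal.span {a}))
  haveI : IsClosedImmersion (Spec.map mk) :=
    IsClosedImmersion.spec_of_surjective mk Ideal.Quotient.mk_surjective
  let e := Spec.map mk ≫ hU.fromSpec
  haveI : IsPreimmersion e := inferInstanceAs (IsPreimmersion (Spec.map mk ≫ hU.fromSpec))
  haveI : LocallyOfFiniteType e := inferInstanceAs (LocallyOfFiniteType (Spec.map mk ≫ hU.fromSpec))
  haveI : IsSeparated (e ≫ f) := inferInstance
  haveI : QuasiCompact (e ≫ f) := inferInstance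
  haveI : QuasiCompact e := QuasiCompact.of_comp e f
  let ptI : Spec (CommRingCat.of (Γ(X, U) ⧸ Ideal.span {a})) → PrimeSpectrum Γ(X, U) :=
    fun z => PrimeSpectrum.comap mk.hom z
  have hept : ∀ z, e z = hU.fromSpec (ptI z) := fun z => rfl
  have haI : ∀ z, a ∈ (ptI z).asIdeal := fun z => by
    show mk.hom a ∈ z.asIdeal
    rw [show mk.hom a = 0 from Ideal.Quotient.eq_zero_iff_mem.2 (Ideal.mem_span_singleton_self a)]
    exact zero_mem _
  have hptinj : Function.Injective ptI :=
    PrimeSpectrum.comap_injective_of_surjective _ Ideal.Quotient.mk_surjective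
  have hlift : ∀ P : PrimeSpectrum Γ(X, U), a ∈ P.asIdeal → ∃ z, ptI z = P := by
    intro P hP
    have h : P ∈ Set.range (PrimeSpectrum.comap (Ideal.Quotient.mk (Ideal.span {a}))) := by
      rw [range_comap_of_surjective _ _ Ideal.Quotient.mk_surjective, PrimeSpectrum.mem_zeroLocus,
        Ideal.mk_ker]
      exact (Ideal.span_singleton_le_iff_mem _).2 hP
    exact h
  let O : (Spec (CommRingCat.of (Γ(X, U) ⧸ Ideal.span {a}))).Opens := PrimeSpectrum.basicOpen (mk.hom g)
  have hmemO : ∀ z, z ∈ O ↔ g ∉ (ptI z).asIdeal := fun z => Iff.rfl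
  let h : O.toScheme ⟶ Spec (CommRingCat.of R) := (O.ι ≫ e) ≫ f
  haveI : LocallyOfFiniteType h := inferInstanceAs (LocallyOfFiniteType ((O.ι ≫ e) ≫ f))
  haveI : IsSeparated h := inferInstanceAs (IsSeparated ((O.ι ≫ e) ≫ f))
  haveI : CompactSpace O.toScheme := isCompact_iff_compactSpace.mp
    (PrimeSpectrum.isCompact_basicOpen (mk.hom g))
  haveI : QuasiCompact h := quasiCompact_of_compactSpace h
  have hZfin : Finite O.toScheme := by
    haveI : Finite S := hSfin.to_subtype
    refine Finite.of_injective (fun z : O.toScheme => (⟨ptI z.1, haI z.1⟩ : S)) fun z w e' => ?_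
    exact Subtype.ext (hptinj (congrArg Subtype.val e'))
  haveI : LocallyQuasiFinite h := LocallyQuasiFinite.of_finite_preimage_singleton h fun y => Set.toFinite _
  obtain ⟨Wo, -, hWfin', hWmem⟩ := Hens.FinPart.exists_finPart h
  haveI := hWfin'
  let j : Wo.toScheme ⟶ Spec (CommRingCat.of (Γ(X, U) ⧸ Ideal.span {a})) := Wo.ι ≫ O.ι
  haveI : IsOpenImmersion j := inferInstanceAs (IsOpenImmersion (Wo.ι ≫ O.ι))
  let d : Wo.toScheme ⟶ X := j ≫ e
  have hdf : d ≫ f = Wo.ι ≫ h := by simp only [d, j, h, Category.assoc]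
  haveI : IsPreimmersion d := inferInstanceAs (IsPreimmersion (j ≫ e))
  haveI : IsFinite (d ≫ f) := by rw [hdf]; infer_instance
  haveI : IsProper (d ≫ f) := inferInstance
  haveI : IsProper d := IsProper.of_comp d f
  haveI hci : IsClosedImmersion d := .of_isPreimmersion d d.isClosedMap.isClosed_range
  have hdpt : ∀ w : Wo.toScheme, d w = hU.fromSpec (ptI (j w)) := fun w => rfl
  have hjO : ∀ w : Wo.toScheme, g ∉ (ptI (j w)).asIdeal := fun w => (hmemO _).1 w.1.2
  -- the point of `D` over `x`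
  obtain ⟨zq, hzq⟩ := hlift q haq
  have hzqO : zq ∈ O := (hmemO zq).2 (by rw [hzq]; exact hgq)
  have hzqW : (⟨zq, hzqO⟩ : O.toScheme) ∈ Wo := hWmem _ (by
    show f.base (e zq) = closedPoint R
    rw [hept, hzq, hq']; exact hxs)
  let px : Wo.toScheme := ⟨⟨zq, hzqO⟩, hzqW⟩
  have hpx : d px = x := by rw [hdpt]; show hU.fromSpec (ptI zq) = x; rw [hzq, hq']
  have honly : ∀ w : Wo.toScheme, f.base (d w) = closedPoint R → w = px := by
    intro w hw
    have hπw : φ π ∈ (ptI (j w)).asIdeal := (hπiff _).1 (by rw [← hdpt]; exact hw)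
    have : ptI (j w) = q := by
      by_contra hne'
      exact hjO w (hg _ (haI (j w)) hπw hne')
    exact j.isOpenEmbedding.injective (hptinj (this.trans hzq.symm))
  refine ⟨Wo.toScheme, d, hci, ?_, ?_, ?_⟩
  · -- effective Cartier
    intro y
    by_cases hy : y ∈ Set.range d.base
    · obtain ⟨w, rfl⟩ := hy
      obtain ⟨G, hG, hGe⟩ := e.isEmbedding.isInducing.isOpen_iff.1 j.isOpenEmbedding.isOpen_range
      have hwG : d w ∈ G := by
        show j w ∈ e.base ⁻¹' G
        rw [hGe]; exact ⟨w, rfl⟩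
      have hwU : d w ∈ U := by
        rw [hdpt]
        exact hU.range_fromSpec.le ⟨_, rfl⟩
      obtain ⟨k, hkle, hwk⟩ := hU.exists_basicOpen_le (V := ⟨G, hG⟩) ⟨d w, hwG⟩ hwU
      refine ⟨X.affineBasicOpen k (U := ⟨U, hU⟩), hwk,
        X.presheaf.map (homOfLE (X.basicOpen_le k)).op a, ?_, ?_⟩
      · haveI : Nonempty (X.basicOpen k) := ⟨⟨d w, hwk⟩⟩
        haveI : IsDomain Γ(X, (X.affineBasicOpen k (U := ⟨U, hU⟩)).1) := IsIntegral.component_integral (X.basicOpen k)
        refine mem_nonZeroDivisors_of_ne_zero fun e0 => ha0 ?_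
        exact map_injective_of_isIntegral X (homOfLE (X.basicOpen_le k))
          (e0.trans (map_zero _).symm)
      · have hle : e ⁻¹ᵁ X.basicOpen k ≤ j.opensRange := fun z hz => by
          have : z ∈ e.base ⁻¹' G := hkle hz
          rw [hGe] at this
          exact this
        show (j ≫ e).ker.ideal _ = _
        rw [ker_ideal_comp_openImmersion j e _ hle,
          ← e.ker.map_ideal (U := X.affineBasicOpen k (U := ⟨U, hU⟩)) (V := ⟨U, hU⟩) (X.basicOpen_le k),
          ker_ideal_fromSpec U hU mk, CommRingCat.hom_ofHom, Ideal.mk_ker, Ideal.map_span,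
          Set.image_singleton]
        rfl
    · obtain ⟨_, ⟨V, hV, rfl⟩, hyV, hVsub⟩ := X.isBasis_affineOpens.exists_subset_of_mem_open
        (Set.mem_compl hy) d.isClosedEmbedding.isClosed_range.isOpen_compl
      refine ⟨⟨V, hV⟩, hyV, 1, one_mem _, ?_⟩
      have hbot : d ⁻¹ᵁ V = ⊥ := by
        refine le_bot_iff.1 fun w hw => ?_
        exact absurd ⟨w, rfl⟩ (hVsub hw)
      haveI : Subsingleton Γ(Wo.toScheme, d ⁻¹ᵁ V) := by rw [hbot]; infer_instance
      rw [Scheme.Hom.ker_apply, Ideal.span_singleton_one]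
      exact eq_top_iff.2 fun s _ => RingHom.mem_ker.2 (Subsingleton.elim _ _)
  · -- horizontal
    intro p
    rcases closedPoint_or_eq_bot (f.base (d p)) with hp | hp
    · obtain rfl := honly p hp
      obtain ⟨P, hP, hPq⟩ := Ideal.exists_minimalPrimes_le
        ((Ideal.span_singleton_le_iff_mem _).2 haq)
      haveI := hP.1.1
      have haP : a ∈ P := hP.1.2 (Ideal.mem_span_singleton_self a)
      have hπP : φ π ∉ P := fun hπP => by
        have := Hmax ⟨P, hP.1.1⟩ q haP hπP hPq
        exact hqnot (show q.asIdeal ∈ (Ideal.span {a}).minimalPrimes by rw [← this]; exact hP)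
      obtain ⟨zP, hzP⟩ := hlift ⟨P, hP.1.1⟩ haP
      have hzz : zP ⤳ zq := by
        refine (Spec.map mk).isClosedEmbedding.isInducing.specializes_iff.1 ?_
        show ptI zP ⤳ ptI zq
        rw [hzP, hzq]
        exact (PrimeSpectrum.le_iff_specializes _ _).1 hPq
      have hzPO : zP ∈ O := hzz.mem_open O.2 hzqO
      have hzz' : (⟨zP, hzPO⟩ : O.toScheme) ⤳ ⟨zq, hzqO⟩ := (subtype_specializes_iff _ _).2 hzz
      have hzPW : (⟨zP, hzPO⟩ : O.toScheme) ∈ Wo := hzz'.mem_open Wo.2 hzqW
      refine ⟨⟨⟨zP, hzPO⟩, hzPW⟩, (subtype_specializes_iff _ _).2 hzz', ?_⟩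
      show (f.base (hU.fromSpec (ptI zP))).asIdeal = ⊥
      rw [hzP]
      exact hbotiff _ hπP
    · exact ⟨p, specializes_refl p, hp⟩
  · ext y
    constructor
    · rintro ⟨⟨w, rfl⟩, hw⟩
      rw [Set.mem_singleton_iff, honly w hw]
      exact hpx
    · rintro rfl
      exact ⟨⟨px, hpx⟩, hxs⟩

end Groth.Agent.HorizCartier96
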